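import Mathlib
import Groth.Agent.Lib.Helper22.ValTrdeg
import Groth.Agent.Lib.Helper59.NoetherChain

/-!
# Specializations in fibres, part A (helper80)

Auxiliary algebra for S1374: contents trick over valuation rings, Noether normalization adapted
to a closed point, and Zariski's main property from finiteness modulo an ideal.
-/

set_option autoImplicit false
set_option linter.style.haveILetI false
universe u

open IsLocalRing

namespace Groth.Agent.Lib.Helper80.SpecFib

/-- Polynomial rings in finitely many variables over an integrally closed domain are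
integrally closed. -/
theorem isIntegrallyClosed_mvPolynomial (N : Type u) [CommRing N] [IsDomain N]
    [IsIntegrallyClosed N] (n : ℕ) : IsIntegrallyClosed (MvPolynomial (Fin n) N) := by
  induction n with
  | zero => exact IsIntegrallyClosed.of_equiv (MvPolynomial.isEmptyAlgEquiv N (Fin 0)).symm.toRingEquiv
  | succ n ih =>
    haveI := ih
    exact IsIntegrallyClosed.of_equiv (MvPolynomial.finSuccEquiv N n).symm.toRingEquiv

/-- Contents trick: over a valuation ring, an algebra map from a polynomial ring into a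
torsion-free domain is injective as soon as it is injective modulo the maximal ideal. -/
theorem injective_of_injective_mod {V D : Type u} [CommRing V] [IsDomain V] [ValuationRing V]
    [CommRing D] [IsDomain D] [Algebra V D] (hinj : Function.Injective (algebraMap V D))
    {s : ℕ} (φ : MvPolynomial (Fin s) V →ₐ[V] D)
    (hmod : ∀ p : MvPolynomial (Fin s) V, φ p ∈ (maximalIdeal V).map (algebraMap V D) →
      ∀ m, p.coeff m ∈ maximalIdeal V) : Function.Injective φ := by
  classical
  rw [injective_iff_map_eq_zero]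
  intro p hp
  by_contra hp0
  have hsupp : p.support.Nonempty := by
    rw [Finset.nonempty_iff_ne_empty, ne_eq, MvPolynomial.support_eq_empty]
    exact hp0
  obtain ⟨m₀, hm₀, hdvd⟩ :=
    Groth.Agent.Lib.Helper22.ValTrdeg.exists_dvd_of_finset p.support hsupp (fun m => p.coeff m)
  set c := p.coeff m₀ with hc
  have hc0 : c ≠ 0 := MvPolynomial.mem_support_iff.mp hm₀
  have hmem : p ∈ Ideal.map (MvPolynomial.C : V →+* MvPolynomial (Fin s) V) (Ideal.span {c}) := by
    rw [MvPolynomial.mem_map_C_iff]
    intro m
    rw [Ideal.mem_span_singleton]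
    by_cases hm : m ∈ p.support
    · exact hdvd m hm
    · rw [MvPolynomial.notMem_support_iff.mp hm]
      exact dvd_zero _
  rw [Ideal.map_span, Set.image_singleton, Ideal.mem_span_singleton'] at hmem
  obtain ⟨p₀, hp₀⟩ := hmem
  have h1 : algebraMap V D c * φ p₀ = 0 := by
    have : φ p = φ p₀ * algebraMap V D c := by
      rw [← hp₀, map_mul]
      congr 1
      exact φ.commutes c
    rw [mul_comm, ← this, hp]
  have hcD : algebraMap V D c ≠ 0 := fun h => hc0 (hinj (by rw [h, map_zero]))
  have h2 : φ p₀ = 0 := (mul_eq_zero.mp h1).resolve_left hcD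
  have h3 := hmod p₀ (by rw [h2]; exact Ideal.zero_mem _) m₀
  have h4 : p₀.coeff m₀ = 1 := by
    have : c = p₀.coeff m₀ * c := by
      conv_lhs => rw [hc, ← hp₀, mul_comm]
      rw [MvPolynomial.coeff_C_mul, mul_comm]
    have h5 : (1 : V) * c = p₀.coeff m₀ * c := by rw [one_mul]; exact this
    exact (mul_right_cancel₀ hc0 h5).symm
  rw [h4] at h3
  exact (Ideal.ne_top_iff_one _).mp (IsLocalRing.maximalIdeal.isMaximal V).ne_top h3

/-- Noether normalization adapted to a prime with algebraic residue ring: the variables can be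
chosen inside the prime. -/
theorem exists_adjusted_NN {κ E : Type u} [Field κ] [CommRing E] [Algebra κ E]
    [Algebra.FiniteType κ E] (Q : Ideal E) [Q.IsPrime]
    (halg : ∀ e : E, ∃ f : Polynomial κ, f.Monic ∧ Polynomial.aeval e f ∈ Q) :
    ∃ (s : ℕ) (g : MvPolynomial (Fin s) κ →ₐ[κ] E), Function.Injective g ∧
      g.toRingHom.Finite ∧ ∀ i, g (MvPolynomial.X i) ∈ Q := by
  classical
  haveI : Nontrivial E := by
    by_contra h
    rw [not_nontrivial_iff_subsingleton] at h
    exact (Ideal.IsPrime.ne_top inferInstance : Q ≠ ⊤) (Subsingleton.elim _ _)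
  obtain ⟨s, g₀, hinj, hfin⟩ := exists_finite_inj_algHom_of_fg κ E
  choose f hfm hfQ using fun i : Fin s => halg (g₀ (MvPolynomial.X i))
  have hdeg : ∀ i, 0 < (f i).natDegree := by
    intro i
    by_contra h
    have h0 : (f i).natDegree = 0 := Nat.eq_zero_of_not_pos h
    have h1 : f i = 1 := by
      have := Polynomial.eq_C_of_natDegree_eq_zero h0
      rw [this]
      have hl : (f i).leadingCoeff = 1 := hfm i
      rw [Polynomial.leadingCoeff, h0] at hl
      rw [hl, map_one]
    have := hfQ i
    rw [h1, map_one] at this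
    exact (Ideal.ne_top_iff_one _).mp (Ideal.IsPrime.ne_top inferInstance) this
  let ν : MvPolynomial (Fin s) κ →ₐ[κ] MvPolynomial (Fin s) κ :=
    MvPolynomial.aeval (fun i => Polynomial.aeval (MvPolynomial.X i : MvPolynomial (Fin s) κ) (f i))
  have hνX : ∀ i, ν (MvPolynomial.X i) =
      Polynomial.aeval (MvPolynomial.X i : MvPolynomial (Fin s) κ) (f i) := fun i =>
    MvPolynomial.aeval_X _ i
  have hνint : ν.toRingHom.IsIntegral := by
    apply Groth.Agent.Lib.Helper59.NoetherRefined.isIntegral_of_X
    intro j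
    refine ⟨(f j).map (MvPolynomial.C : κ →+* MvPolynomial (Fin s) κ) -
      Polynomial.C (MvPolynomial.X j), ?_, ?_⟩
    · apply Polynomial.Monic.sub_of_left ((hfm j).map _)
      rw [Polynomial.degree_C (MvPolynomial.X_ne_zero j),
        Polynomial.degree_eq_natDegree ((hfm j).map _).ne_zero, (hfm j).natDegree_map]
      exact_mod_cast hdeg j
    · rw [Polynomial.eval₂_sub, Polynomial.eval₂_C, Polynomial.eval₂_map]
      have : ν.toRingHom.comp (MvPolynomial.C : κ →+* MvPolynomial (Fin s) κ) =
          algebraMap κ (MvPolynomial (Fin s) κ) := by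
        ext a
        simp [ν]
      rw [this]
      show Polynomial.aeval (MvPolynomial.X j : MvPolynomial (Fin s) κ) (f j) -
        ν (MvPolynomial.X j) = 0
      rw [hνX, sub_self]
  have hνinj : Function.Injective ν :=
    Groth.Agent.Lib.Helper59.NoetherChain.injective_of_isIntegral ν hνint
  have hνft : ν.toRingHom.FiniteType := by
    apply RingHom.FiniteType.of_comp_finiteType (f := (MvPolynomial.C : κ →+* MvPolynomial (Fin s) κ))
    have : ν.toRingHom.comp (MvPolynomial.C : κ →+* MvPolynomial (Fin s) κ) =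
        algebraMap κ (MvPolynomial (Fin s) κ) := by
      ext a
      simp [ν]
    rw [this]
    exact RingHom.finiteType_algebraMap.mpr inferInstance
  have hνfin : ν.toRingHom.Finite := RingHom.IsIntegral.to_finite hνint hνft
  refine ⟨s, g₀.comp ν, hinj.comp hνinj, ?_, ?_⟩
  · exact RingHom.Finite.comp hfin hνfin
  · intro i
    rw [AlgHom.comp_apply, hνX, ← Polynomial.aeval_algHom_apply]
    exact hfQ i

/-- If `D / I` is a finite module over `P`, then Zariski's main property holds at every
prime `𝔮` of `D` containing `I`, provided `I ≤ (𝔮 ∩ P) D`. -/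
theorem zmp_of_finite_mod {P D : Type u} [CommRing P] [CommRing D] [Algebra P D]
    [Algebra.FiniteType P D] (I : Ideal D)
    (hfin : Module.Finite P (D ⧸ I)) (𝔮 : Ideal D) [𝔮.IsPrime]
    (hM : I ≤ 𝔮) (hIJ : I ≤ (𝔮.under P).map (algebraMap P D)) :
    Algebra.ZariskisMainProperty P 𝔮 := by
  set J := (𝔮.under P).map (algebraMap P D) with hJ
  have hJ𝔮 : J ≤ 𝔮 := Ideal.map_comap_le
  let f : (D ⧸ I) →ₐ[P] (D ⧸ J) := Ideal.Quotient.factorₐ P hIJ
  haveI hQ : (𝔮.map (Ideal.Quotient.mk I)).IsPrime :=
    Ideal.map_isPrime_of_surjective Ideal.Quotient.mk_surjective (by rwa [Ideal.mk_ker])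
  haveI hQ' : (𝔮.map (Ideal.Quotient.mk J)).IsPrime :=
    Ideal.map_isPrime_of_surjective Ideal.Quotient.mk_surjective (by rwa [Ideal.mk_ker])
  haveI : Algebra.QuasiFinite P (D ⧸ I) := inferInstance
  haveI : Algebra.QuasiFiniteAt P (𝔮.map (Ideal.Quotient.mk I)) := inferInstance
  have hq : 𝔮.map (Ideal.Quotient.mk I) = (𝔮.map (Ideal.Quotient.mk J)).comap f.toRingHom := by
    ext x
    obtain ⟨d, rfl⟩ := Ideal.Quotient.mk_surjective x
    rw [Ideal.mem_comap]
    have : f.toRingHom (Ideal.Quotient.mk I d) = Ideal.Quotient.mk J d := rfl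
    rw [this, Ideal.mem_quotient_iff_mem hM, Ideal.mem_quotient_iff_mem hJ𝔮]
  haveI : Algebra.WeaklyQuasiFiniteAt P 𝔮 :=
    Algebra.QuasiFiniteAt.of_surjectiveOnStalks (𝔮.map (Ideal.Quotient.mk I)) f
      (RingHom.surjectiveOnStalks_of_surjective (Ideal.Quotient.factor_surjective hIJ))
      (𝔮.map (Ideal.Quotient.mk J)) hq
  exact Algebra.ZariskisMainProperty.of_finiteType_of_weaklyQuasiFiniteAt 𝔮

end Groth.Agent.Lib.Helper80.SpecFib
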