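import Mathlib
import Groth.Agent.Lib.Helper80.SpecFib.PartA

/-!
# Specializations in fibres, part B (helper80)

The core statement over a valuation ring.
-/

set_option autoImplicit false
set_option linter.style.haveILetI false
universe u

open IsLocalRing

namespace Groth.Agent.Lib.Helper80.SpecFib

/-- A prime of the integral closure not containing `r` lifts to `D` when `D[1/r] = C[1/r]`. -/
theorem lift_prime {P D : Type u} [CommRing P] [CommRing D] [Algebra P D]
    (r : integralClosure P D)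
    (hbij : Function.Bijective (Localization.awayMap (integralClosure P D).val.toRingHom r))
    (𝔫₁ : Ideal (integralClosure P D)) [h𝔫₁ : 𝔫₁.IsPrime] (hr : r ∉ 𝔫₁) :
    ∃ 𝔮₁ : Ideal D, 𝔮₁.IsPrime ∧ 𝔮₁.comap (integralClosure P D).val.toRingHom = 𝔫₁ := by
  let ψ := Localization.awayMap (integralClosure P D).val.toRingHom r
  let e : Localization.Away r ≃+* Localization.Away ((integralClosure P D).val.toRingHom r) :=
    RingEquiv.ofBijective ψ hbij
  have hdisj : Disjoint (Submonoid.powers r : Set (integralClosure P D))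
      (𝔫₁ : Set (integralClosure P D)) := by
    rw [Set.disjoint_left]
    rintro _ ⟨n, rfl⟩ h
    exact hr (Ideal.IsPrime.mem_of_pow_mem h𝔫₁ n h)
  haveI h𝔑 : (Ideal.map (algebraMap (integralClosure P D) (Localization.Away r)) 𝔫₁).IsPrime :=
    IsLocalization.isPrime_of_isPrime_disjoint (Submonoid.powers r) _ 𝔫₁ h𝔫₁ hdisj
  haveI h2 : ((Ideal.map (algebraMap (integralClosure P D) (Localization.Away r)) 𝔫₁).comap
      e.symm.toRingHom).IsPrime := Ideal.comap_isPrime _ _
  refine ⟨((Ideal.map (algebraMap (integralClosure P D) (Localization.Away r)) 𝔫₁).comap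
      e.symm.toRingHom).comap
      (algebraMap D (Localization.Away ((integralClosure P D).val.toRingHom r))),
    Ideal.comap_isPrime _ _, ?_⟩
  ext x
  rw [Ideal.mem_comap, Ideal.mem_comap, Ideal.mem_comap]
  have h1 : algebraMap D (Localization.Away ((integralClosure P D).val.toRingHom r))
      ((integralClosure P D).val.toRingHom x) =
      ψ (algebraMap (integralClosure P D) (Localization.Away r) x) := by
    simp only [ψ, Localization.awayMap, IsLocalization.Away.map]
    exact (IsLocalization.map_eq _ _).symm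
  rw [h1]
  have h3 : e.symm.toRingHom (ψ (algebraMap (integralClosure P D) (Localization.Away r) x)) =
      algebraMap (integralClosure P D) (Localization.Away r) x := e.symm_apply_apply _
  rw [h3]
  have h4 := IsLocalization.under_map_of_isPrime_disjoint (Submonoid.powers r)
    (Localization.Away r) h𝔫₁ hdisj
  conv_rhs => rw [← h4]
  rfl

/-- The core statement over a valuation ring: a closed point of the special fibre of a flat
domain of finite type is a specialization of closed points of the generic fibre, and these can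
be chosen to avoid a given nonzero function. -/
theorem core_val {V D : Type u} [CommRing V] [IsDomain V] [ValuationRing V]
    [CommRing D] [IsDomain D] [Algebra V D] [Algebra.FiniteType V D]
    (hinj : Function.Injective (algebraMap V D))
    (𝔮 : Ideal D) [h𝔮 : 𝔮.IsPrime] (h𝔪 : (maximalIdeal V).map (algebraMap V D) ≤ 𝔮)
    (hne : maximalIdeal V ≠ ⊥)
    (halg : ∀ d : D, ∃ p : Polynomial V, (∃ i, p.coeff i ∉ maximalIdeal V) ∧
      Polynomial.aeval d p ∈ 𝔮)
    (g : D) (hg : g ≠ 0) :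
    ∃ 𝔮₁ : Ideal D, 𝔮₁.IsPrime ∧ 𝔮₁ ≤ 𝔮 ∧ 𝔮₁.comap (algebraMap V D) = ⊥ ∧ g ∉ 𝔮₁ ∧
      ∀ d : D, ∃ p : Polynomial V, p ≠ 0 ∧ Polynomial.aeval d p ∈ 𝔮₁ := by
  classical
  letI : Field (V ⧸ maximalIdeal V) := Ideal.Quotient.field _
  set I := (maximalIdeal V).map (algebraMap V D) with hI
  haveI : Algebra.FiniteType V (D ⧸ I) :=
    Algebra.FiniteType.of_surjective (Ideal.Quotient.mkₐ V I) (Ideal.Quotient.mkₐ_surjective V I)
  haveI : Algebra.FiniteType (V ⧸ maximalIdeal V) (D ⧸ I) :=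
    Algebra.FiniteType.of_restrictScalars_finiteType V _ _
  haveI hQ : (𝔮.map (Ideal.Quotient.mk I)).IsPrime :=
    Ideal.map_isPrime_of_surjective Ideal.Quotient.mk_surjective (by rwa [Ideal.mk_ker])
  have halg' : ∀ e : D ⧸ I, ∃ f : Polynomial (V ⧸ maximalIdeal V), f.Monic ∧
      Polynomial.aeval e f ∈ 𝔮.map (Ideal.Quotient.mk I) := by
    intro e
    obtain ⟨d, rfl⟩ := Ideal.Quotient.mk_surjective e
    obtain ⟨p, ⟨i, hi⟩, hp⟩ := halg d
    set pb := p.map (algebraMap V (V ⧸ maximalIdeal V)) with hpb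
    have hpb0 : pb ≠ 0 := by
      intro h0
      have : pb.coeff i = 0 := by rw [h0, Polynomial.coeff_zero]
      rw [hpb, Polynomial.coeff_map] at this
      exact hi (Ideal.Quotient.eq_zero_iff_mem.mp this)
    refine ⟨pb * Polynomial.C pb.leadingCoeff⁻¹, Polynomial.monic_mul_leadingCoeff_inv hpb0, ?_⟩
    rw [map_mul]
    apply Ideal.mul_mem_right
    have h1 : Polynomial.aeval (Ideal.Quotient.mk I d) pb =
        Polynomial.aeval (Ideal.Quotient.mk I d) p := Polynomial.aeval_map_algebraMap _ _ _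
    have h2 : Polynomial.aeval (Ideal.Quotient.mk I d) p =
        Ideal.Quotient.mk I (Polynomial.aeval d p) :=
      Polynomial.aeval_algHom_apply (Ideal.Quotient.mkₐ V I) d p
    rw [h1, h2]
    exact Ideal.mem_map_of_mem _ hp
  obtain ⟨s, g', hg'inj, hg'fin, hg'X⟩ := exists_adjusted_NN (𝔮.map (Ideal.Quotient.mk I)) halg'
  choose d hd using fun i : Fin s => Ideal.Quotient.mk_surjective (g' (MvPolynomial.X i))
  have hd𝔮 : ∀ i, d i ∈ 𝔮 := fun i =>
    (Ideal.mem_quotient_iff_mem h𝔪).mp (by rw [hd i]; exact hg'X i)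
  let φ : MvPolynomial (Fin s) V →ₐ[V] D := MvPolynomial.aeval d
  have hφC : ∀ v : V, φ (MvPolynomial.C v) = algebraMap V D v := fun v => by
    rw [← MvPolynomial.algebraMap_eq, AlgHom.commutes]
  have hφX : ∀ i, φ (MvPolynomial.X i) = d i := fun i => MvPolynomial.aeval_X d i
  have hcompat : ∀ p : MvPolynomial (Fin s) V, Ideal.Quotient.mk I (φ p) =
      g' (MvPolynomial.map (Ideal.Quotient.mk (maximalIdeal V)) p) := by
    intro p
    have : (Ideal.Quotient.mk I).comp φ.toRingHom =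
        g'.toRingHom.comp (MvPolynomial.map (Ideal.Quotient.mk (maximalIdeal V))) := by
      refine MvPolynomial.ringHom_ext ?_ ?_
      · intro v
        show Ideal.Quotient.mk I (φ (MvPolynomial.C v)) =
          g' (MvPolynomial.map (Ideal.Quotient.mk (maximalIdeal V)) (MvPolynomial.C v))
        rw [hφC, MvPolynomial.map_C, ← MvPolynomial.algebraMap_eq, AlgHom.commutes]
        rfl
      · intro i
        show Ideal.Quotient.mk I (φ (MvPolynomial.X i)) =
          g' (MvPolynomial.map (Ideal.Quotient.mk (maximalIdeal V)) (MvPolynomial.X i))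
        rw [hφX, MvPolynomial.map_X, hd i]
    exact congrArg (fun k => k p) this
  have hφinj : Function.Injective φ := by
    apply injective_of_injective_mod hinj φ
    intro p hp m
    have h1 : Ideal.Quotient.mk I (φ p) = 0 := Ideal.Quotient.eq_zero_iff_mem.mpr hp
    rw [hcompat] at h1
    have h2 : MvPolynomial.map (Ideal.Quotient.mk (maximalIdeal V)) p = 0 :=
      hg'inj (by rw [h1, map_zero])
    have h3 := congrArg (MvPolynomial.coeff m) h2
    rw [MvPolynomial.coeff_map, MvPolynomial.coeff_zero] at h3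
    exact Ideal.Quotient.eq_zero_iff_mem.mp h3
  letI algP : Algebra (MvPolynomial (Fin s) V) D := φ.toRingHom.toAlgebra
  have halgP : ∀ p, algebraMap (MvPolynomial (Fin s) V) D p = φ p := fun _ => rfl
  haveI towP : IsScalarTower V (MvPolynomial (Fin s) V) D :=
    IsScalarTower.of_algebraMap_eq (fun v => by rw [halgP, MvPolynomial.algebraMap_eq, hφC])
  haveI : Algebra.FiniteType (MvPolynomial (Fin s) V) D :=
    Algebra.FiniteType.of_restrictScalars_finiteType V _ _
  have hfinP : Module.Finite (MvPolynomial (Fin s) V) (D ⧸ I) := by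
    letI a1 : Algebra (MvPolynomial (Fin s) V) (MvPolynomial (Fin s) (V ⧸ maximalIdeal V)) :=
      (MvPolynomial.map (Ideal.Quotient.mk (maximalIdeal V))).toAlgebra
    letI a2 : Algebra (MvPolynomial (Fin s) (V ⧸ maximalIdeal V)) (D ⧸ I) :=
      g'.toRingHom.toAlgebra
    haveI : IsScalarTower (MvPolynomial (Fin s) V) (MvPolynomial (Fin s) (V ⧸ maximalIdeal V))
        (D ⧸ I) := IsScalarTower.of_algebraMap_eq (fun p => hcompat p)
    haveI : Module.Finite (MvPolynomial (Fin s) V)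
        (MvPolynomial (Fin s) (V ⧸ maximalIdeal V)) :=
      Module.Finite.of_surjective (Algebra.linearMap _ _)
        (MvPolynomial.map_surjective _ Ideal.Quotient.mk_surjective)
    haveI : Module.Finite (MvPolynomial (Fin s) (V ⧸ maximalIdeal V)) (D ⧸ I) := hg'fin
    exact Module.Finite.trans (MvPolynomial (Fin s) (V ⧸ maximalIdeal V)) (D ⧸ I)
  have hIJ : I ≤ (𝔮.under (MvPolynomial (Fin s) V)).map
      (algebraMap (MvPolynomial (Fin s) V) D) := by
    rw [hI, Ideal.map_le_iff_le_comap]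
    intro v hv
    rw [Ideal.mem_comap, ← hφC, ← halgP]
    apply Ideal.mem_map_of_mem
    rw [Ideal.under_def, Ideal.mem_comap, halgP, hφC]
    exact h𝔪 (Ideal.mem_map_of_mem _ hv)
  obtain ⟨r, hr𝔮, hbij⟩ := zmp_of_finite_mod I hfinP 𝔮 h𝔪 hIJ
  have hsurj := Localization.awayMap_surjective_iff.mp hbij.2
  -- going down set-up
  haveI : IsIntegrallyClosed V := by
    letI := IsBezout.toGCDDomain V
    exact GCDMonoid.toIsIntegrallyClosed
  haveI : IsIntegrallyClosed (MvPolynomial (Fin s) V) := isIntegrallyClosed_mvPolynomial V s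
  haveI : FaithfulSMul (MvPolynomial (Fin s) V) (integralClosure (MvPolynomial (Fin s) V) D) := by
    rw [faithfulSMul_iff_algebraMap_injective]
    intro p q hpq
    apply hφinj
    exact congrArg Subtype.val hpq
  have hvalmap : ∀ p : MvPolynomial (Fin s) V,
      ((algebraMap (MvPolynomial (Fin s) V) (integralClosure (MvPolynomial (Fin s) V) D) p :
        integralClosure (MvPolynomial (Fin s) V) D) : D) = φ p := fun _ => rfl
  set 𝔫 : Ideal (integralClosure (MvPolynomial (Fin s) V) D) :=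
    𝔮.comap (integralClosure (MvPolynomial (Fin s) V) D).val.toRingHom with h𝔫
  haveI : 𝔫.IsPrime := Ideal.comap_isPrime _ _
  have hmem𝔫 : ∀ c : integralClosure (MvPolynomial (Fin s) V) D, c ∈ 𝔫 ↔ (c : D) ∈ 𝔮 :=
    fun c => Iff.rfl
  have hr0 : (r : D) ≠ 0 := fun h => hr𝔮 (by rw [h]; exact Ideal.zero_mem _)
  -- the function to avoid
  obtain ⟨gC, m₀, hgC⟩ := hsurj g
  have hgC' : (gC : D) = (r : D) ^ m₀ * g := hgC
  have hgC0 : gC ≠ 0 := by
    intro h
    have : (gC : D) = 0 := by rw [h]; rfl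
    rw [hgC'] at this
    exact (mul_ne_zero (pow_ne_zero _ hr0) hg) this
  have hcomap_ne : (Ideal.span {gC}).comap (algebraMap (MvPolynomial (Fin s) V)
      (integralClosure (MvPolynomial (Fin s) V) D)) ≠ ⊥ :=
    Ideal.comap_ne_bot_of_integral_mem hgC0 (Ideal.mem_span_singleton_self gC)
      (Algebra.IsIntegral.isIntegral gC)
  obtain ⟨h, hh_mem, hh0⟩ := Submodule.exists_mem_ne_zero_of_ne_bot hcomap_ne
  -- a point of the polydisc
  obtain ⟨a, ha𝔪, hah⟩ : ∃ a : Fin s → V, (∀ i, a i ∈ maximalIdeal V) ∧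
      MvPolynomial.eval a h ≠ 0 := by
    by_contra hcon
    push Not at hcon
    apply hh0
    obtain ⟨π, hπ, hπ0⟩ := Submodule.exists_mem_ne_zero_of_ne_bot hne
    have hinf : (maximalIdeal V : Set V).Infinite := by
      refine Set.infinite_of_injective_forall_mem (f := fun n : ℕ => π ^ (n + 1)) ?_ ?_
      · intro n k hnk
        have := pow_injective_of_not_isUnit ((IsLocalRing.mem_maximalIdeal π).mp hπ) hπ0 hnk
        omega
      · intro n
        exact Ideal.pow_mem_of_mem _ hπ _ (Nat.succ_pos n)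
    refine MvPolynomial.funext_set (fun _ => (maximalIdeal V : Set V)) (fun _ => hinf) ?_
    intro x hx
    rw [map_zero]
    exact hcon x (fun i => hx i (Set.mem_univ i))
  let ev : MvPolynomial (Fin s) V →+* V := MvPolynomial.eval a
  set P₁ := RingHom.ker ev with hP₁
  haveI hP₁prime : P₁.IsPrime := RingHom.ker_isPrime ev
  -- P₁ maps into 𝔮
  have hfact𝔮 : ∀ p : MvPolynomial (Fin s) V, ev p = 0 → φ p ∈ 𝔮 := by
    intro p hp
    have : (Ideal.Quotient.mk 𝔮).comp φ.toRingHom =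
        ((Ideal.Quotient.mk 𝔮).comp (algebraMap V D)).comp ev := by
      refine MvPolynomial.ringHom_ext ?_ ?_
      · intro v
        show Ideal.Quotient.mk 𝔮 (φ (MvPolynomial.C v)) =
          Ideal.Quotient.mk 𝔮 (algebraMap V D (MvPolynomial.eval a (MvPolynomial.C v)))
        rw [hφC, MvPolynomial.eval_C]
      · intro i
        show Ideal.Quotient.mk 𝔮 (φ (MvPolynomial.X i)) =
          Ideal.Quotient.mk 𝔮 (algebraMap V D (MvPolynomial.eval a (MvPolynomial.X i)))
        rw [hφX, MvPolynomial.eval_X, Ideal.Quotient.eq_zero_iff_mem.mpr (hd𝔮 i),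
          Ideal.Quotient.eq_zero_iff_mem.mpr (h𝔪 (Ideal.mem_map_of_mem _ (ha𝔪 i)))]
    have h2 := congrArg (fun k => k p) this
    simp only [RingHom.comp_apply] at h2
    rw [hp, map_zero, map_zero] at h2
    exact Ideal.Quotient.eq_zero_iff_mem.mp h2
  have hP₁le : P₁ ≤ 𝔫.under (MvPolynomial (Fin s) V) := by
    intro p hp
    rw [Ideal.under_def, Ideal.mem_comap, hmem𝔫, hvalmap]
    exact hfact𝔮 p hp
  obtain ⟨𝔫₁, h𝔫₁le, h𝔫₁prime, h𝔫₁over⟩ :=
    Ideal.exists_ideal_le_liesOver_of_le (p := P₁) (q := 𝔫.under (MvPolynomial (Fin s) V)) 𝔫 hP₁le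
  have hr𝔫₁ : r ∉ 𝔫₁ := fun h => hr𝔮 ((hmem𝔫 r).mp (h𝔫₁le h))
  obtain ⟨𝔮₁, h𝔮₁prime, h𝔮₁⟩ := lift_prime r hbij 𝔫₁ hr𝔫₁
  have hmem𝔮₁ : ∀ c : integralClosure (MvPolynomial (Fin s) V) D, (c : D) ∈ 𝔮₁ ↔ c ∈ 𝔫₁ := by
    intro c
    rw [← h𝔮₁]
    rfl
  have hP₁mem : ∀ p : MvPolynomial (Fin s) V, φ p ∈ 𝔮₁ ↔ ev p = 0 := by
    intro p
    rw [← hvalmap, hmem𝔮₁]
    have := h𝔫₁over.over
    rw [Ideal.under_def] at this
    constructor
    · intro hp
      have : p ∈ P₁ := by rw [this]; exact hp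
      exact this
    · intro hp
      have h3 : p ∈ P₁ := hp
      rw [this] at h3
      exact h3
  have hr𝔮₁ : (r : D) ∉ 𝔮₁ := fun h => hr𝔫₁ ((hmem𝔮₁ r).mp h)
  refine ⟨𝔮₁, h𝔮₁prime, ?_, ?_, ?_, ?_⟩
  · -- 𝔮₁ ≤ 𝔮
    intro x hx
    obtain ⟨b, m, hb⟩ := hsurj x
    have hb' : (b : D) = (r : D) ^ m * x := hb
    have h1 : (b : D) ∈ 𝔮₁ := by rw [hb']; exact Ideal.mul_mem_left _ _ hx
    have h2 : (b : D) ∈ 𝔮 := (hmem𝔫 b).mp (h𝔫₁le ((hmem𝔮₁ b).mp h1))
    rw [hb'] at h2
    exact (h𝔮.mem_or_mem h2).resolve_left (fun h => hr𝔮 (h𝔮.mem_of_pow_mem _ h))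
  · -- contraction to V
    rw [eq_bot_iff]
    intro v hv
    rw [Ideal.mem_comap, ← hφC, hP₁mem] at hv
    have : ev (MvPolynomial.C v) = v := MvPolynomial.eval_C _
    rw [this] at hv
    rw [hv]
    exact Ideal.zero_mem _
  · -- avoid g
    intro hg𝔮₁
    have h1 : (gC : D) ∈ 𝔮₁ := by rw [hgC']; exact Ideal.mul_mem_left _ _ hg𝔮₁
    have h2 : gC ∈ 𝔫₁ := (hmem𝔮₁ gC).mp h1
    have h3 : Ideal.span {gC} ≤ 𝔫₁ := (Ideal.span_singleton_le_iff_mem _).mpr h2
    have h4 : algebraMap (MvPolynomial (Fin s) V) _ h ∈ 𝔫₁ := h3 hh_mem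
    have h5 : φ h ∈ 𝔮₁ := by rw [← hvalmap, hmem𝔮₁]; exact h4
    exact hah ((hP₁mem h).mp h5)
  · -- algebraicity
    intro x
    haveI := h𝔮₁prime
    have hfact : ∀ p : MvPolynomial (Fin s) V,
        Ideal.Quotient.mk 𝔮₁ (φ p) = algebraMap V (D ⧸ 𝔮₁) (ev p) := by
      intro p
      have hsub : ev (p - MvPolynomial.C (ev p)) = 0 := by
        rw [map_sub]
        show ev p - MvPolynomial.eval a (MvPolynomial.C (ev p)) = 0
        rw [MvPolynomial.eval_C, sub_self]
      have := (hP₁mem _).mpr hsub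
      rw [map_sub, hφC] at this
      have h2 := Ideal.Quotient.eq.mpr this
      rw [h2]
      rfl
    have hintC : ∀ c : integralClosure (MvPolynomial (Fin s) V) D,
        IsIntegral V (Ideal.Quotient.mk 𝔮₁ (c : D)) := by
      intro c
      obtain ⟨q, hqm, hq⟩ := c.2
      refine ⟨q.map ev, hqm.map _, ?_⟩
      rw [Polynomial.eval₂_map]
      have hcomp : (algebraMap V (D ⧸ 𝔮₁)).comp ev =
          (Ideal.Quotient.mk 𝔮₁).comp (algebraMap (MvPolynomial (Fin s) V) D) := by
        ext p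
        · simp only [RingHom.comp_apply]
          rw [halgP, hfact]
        · simp only [RingHom.comp_apply]
          rw [halgP, hfact]
      rw [hcomp, ← Polynomial.hom_eval₂, hq, map_zero]
    obtain ⟨b, m, hb⟩ := hsurj x
    have hb' : (b : D) = (r : D) ^ m * x := hb
    let Ω := FractionRing (D ⧸ 𝔮₁)
    have hinjΩ : Function.Injective (algebraMap (D ⧸ 𝔮₁) Ω) := IsFractionRing.injective _ _
    have hrΩ : algebraMap (D ⧸ 𝔮₁) Ω (Ideal.Quotient.mk 𝔮₁ (r : D)) ≠ 0 := by
      intro h0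
      have := hinjΩ (by rw [h0, map_zero] : algebraMap (D ⧸ 𝔮₁) Ω (Ideal.Quotient.mk 𝔮₁ (r : D)) =
        algebraMap (D ⧸ 𝔮₁) Ω 0)
      exact hr𝔮₁ (Ideal.Quotient.eq_zero_iff_mem.mp this)
    have hxΩ : algebraMap (D ⧸ 𝔮₁) Ω (Ideal.Quotient.mk 𝔮₁ x) =
        algebraMap (D ⧸ 𝔮₁) Ω (Ideal.Quotient.mk 𝔮₁ (b : D)) *
          ((algebraMap (D ⧸ 𝔮₁) Ω (Ideal.Quotient.mk 𝔮₁ (r : D))) ^ m)⁻¹ := by
      rw [hb', map_mul, map_mul, map_pow, map_pow]
      rw [mul_comm (_ ^ m) _, mul_assoc, mul_inv_cancel₀ (pow_ne_zero m hrΩ), mul_one]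
    have halgx : IsAlgebraic V (algebraMap (D ⧸ 𝔮₁) Ω (Ideal.Quotient.mk 𝔮₁ x)) := by
      rw [hxΩ]
      exact ((hintC b).isAlgebraic.algebraMap).mul
        (((hintC r).isAlgebraic.algebraMap).pow m).inv
    have halgx' : IsAlgebraic V (Ideal.Quotient.mk 𝔮₁ x) :=
      (isAlgebraic_algebraMap_iff hinjΩ).mp halgx
    obtain ⟨p, hp0, hp⟩ := halgx'
    refine ⟨p, hp0, ?_⟩
    have h2 : Polynomial.aeval (Ideal.Quotient.mk 𝔮₁ x) p =
        Ideal.Quotient.mk 𝔮₁ (Polynomial.aeval x p) :=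
      Polynomial.aeval_algHom_apply (Ideal.Quotient.mkₐ V 𝔮₁) x p
    rw [h2] at hp
    exact Ideal.Quotient.eq_zero_iff_mem.mp hp

end Groth.Agent.Lib.Helper80.SpecFib
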