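import Mathlib
import Groth.Agent.Lib.Helper80.SpecFib.PartB

set_option autoImplicit false
set_option linter.style.haveILetI false
universe u

open IsLocalRing

namespace Groth.Agent.Lib.Helper80.SpecFib

theorem mem_nonunits_iff_inv {K : Type*} [Field K] (A : ValuationSubring K) (x : K) :
    x ∈ A.nonunits ↔ x = 0 ∨ x⁻¹ ∉ A := by
  rw [ValuationSubring.mem_nonunits_iff]
  by_cases hx : x = 0
  · subst hx; simp
  · simp only [hx, false_or]
    rw [← ValuationSubring.valuation_le_one_iff, not_le,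
      Valuation.one_lt_val_iff _ (inv_ne_zero hx), inv_inv]

theorem nonunits_comap {K L : Type*} [Field K] [Field L] (φ : K →+* L) (W : ValuationSubring L)
    (k : K) : k ∈ (W.comap φ).nonunits ↔ φ k ∈ W.nonunits := by
  rw [mem_nonunits_iff_inv, mem_nonunits_iff_inv, ValuationSubring.mem_comap, map_inv₀,
    map_eq_zero]

/-- Algebraicity of the residue extension can be checked on generators. -/
theorem halg_of_gens {V D : Type u} [CommRing V] [IsLocalRing V] [CommRing D] [Algebra V D]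
    (𝔮 : Ideal D) [h𝔮 : 𝔮.IsPrime] (h𝔪 : (maximalIdeal V).map (algebraMap V D) ≤ 𝔮)
    (s : Set D) (hs : Algebra.adjoin V s = ⊤)
    (H : ∀ d ∈ s, ∃ p : Polynomial V, (∃ i, p.coeff i ∉ maximalIdeal V) ∧
      Polynomial.aeval d p ∈ 𝔮) :
    ∀ d : D, ∃ p : Polynomial V, (∃ i, p.coeff i ∉ maximalIdeal V) ∧
      Polynomial.aeval d p ∈ 𝔮 := by
  classical
  letI : Field (V ⧸ maximalIdeal V) := Ideal.Quotient.field _
  have hle : maximalIdeal V ≤ 𝔮.comap (algebraMap V D) := Ideal.map_le_iff_le_comap.mp h𝔪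
  letI : Algebra (V ⧸ maximalIdeal V) (D ⧸ 𝔮) :=
    (Ideal.quotientMap 𝔮 (algebraMap V D) hle).toAlgebra
  haveI : IsScalarTower V (V ⧸ maximalIdeal V) (D ⧸ 𝔮) :=
    IsScalarTower.of_algebraMap_eq (fun v => rfl)
  haveI : IsDomain (D ⧸ 𝔮) := Ideal.Quotient.isDomain 𝔮
  have key : ∀ d : D, IsAlgebraic (V ⧸ maximalIdeal V) (Ideal.Quotient.mk 𝔮 d) := by
    intro d
    have hd : d ∈ Algebra.adjoin V s := by rw [hs]; trivial
    induction hd using Algebra.adjoin_induction with
    | mem x hx =>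
      obtain ⟨p, ⟨i, hi⟩, hp⟩ := H x hx
      refine ⟨p.map (algebraMap V (V ⧸ maximalIdeal V)), ?_, ?_⟩
      · intro h0
        have : (p.map (algebraMap V (V ⧸ maximalIdeal V))).coeff i = 0 := by
          rw [h0, Polynomial.coeff_zero]
        rw [Polynomial.coeff_map] at this
        exact hi (Ideal.Quotient.eq_zero_iff_mem.mp this)
      · have h1 : Polynomial.aeval (Ideal.Quotient.mk 𝔮 x)
            (p.map (algebraMap V (V ⧸ maximalIdeal V))) =
            Polynomial.aeval (Ideal.Quotient.mk 𝔮 x) p := Polynomial.aeval_map_algebraMap _ _ _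
        have h2 : Polynomial.aeval (Ideal.Quotient.mk 𝔮 x) p =
            Ideal.Quotient.mk 𝔮 (Polynomial.aeval x p) :=
          Polynomial.aeval_algHom_apply (Ideal.Quotient.mkₐ V 𝔮) x p
        rw [h1, h2]
        exact Ideal.Quotient.eq_zero_iff_mem.mpr hp
    | algebraMap v =>
      have : Ideal.Quotient.mk 𝔮 (algebraMap V D v) =
          algebraMap (V ⧸ maximalIdeal V) (D ⧸ 𝔮) (Ideal.Quotient.mk _ v) := rfl
      rw [this]
      exact isAlgebraic_algebraMap _
    | add x y _ _ hx hy =>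
      rw [map_add]; exact hx.add hy
    | mul x y _ _ hx hy =>
      rw [map_mul]; exact hx.mul hy
  intro d
  obtain ⟨q, hq0, hq⟩ := key d
  obtain ⟨p, rfl⟩ := Polynomial.map_surjective (Ideal.Quotient.mk (maximalIdeal V))
    Ideal.Quotient.mk_surjective q
  have hi : ∃ i, (p.map (Ideal.Quotient.mk (maximalIdeal V))).coeff i ≠ 0 := by
    by_contra hcon
    push Not at hcon
    exact hq0 (Polynomial.ext (fun i => by rw [hcon i, Polynomial.coeff_zero]))
  obtain ⟨i, hi⟩ := hi
  refine ⟨p, ⟨i, fun hmem => hi ?_⟩, ?_⟩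
  · rw [Polynomial.coeff_map]
    exact Ideal.Quotient.eq_zero_iff_mem.mpr hmem
  · have h1 : Polynomial.aeval (Ideal.Quotient.mk 𝔮 d)
        (p.map (algebraMap V (V ⧸ maximalIdeal V))) =
        Polynomial.aeval (Ideal.Quotient.mk 𝔮 d) p := Polynomial.aeval_map_algebraMap _ _ _
    have h2 : Polynomial.aeval (Ideal.Quotient.mk 𝔮 d) p =
        Ideal.Quotient.mk 𝔮 (Polynomial.aeval d p) :=
      Polynomial.aeval_algHom_apply (Ideal.Quotient.mkₐ V 𝔮) d p
    have h3 : Ideal.Quotient.mk 𝔮 (Polynomial.aeval d p) = 0 := by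
      rw [← h2, ← h1]; exact hq
    exact Ideal.Quotient.eq_zero_iff_mem.mp h3

end Groth.Agent.Lib.Helper80.SpecFib
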