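import Mathlib
import Groth.Agent.Lib.Helper80.SpecFib.PartB
import Groth.Agent.Lib.Helper80.SpecFib.PartC1

/-!
# Specializations in fibres, part C (helper80)

Reduction of the general affine statement to the valuation ring case.
-/

set_option autoImplicit false
set_option linter.style.haveILetI false
universe u

open IsLocalRing

namespace Groth.Agent.Lib.Helper80.SpecFib

theorem core_dom_aux {A B : Type u} [CommRing A] [IsDomain A] [CommRing B] [IsDomain B]
    [Algebra A B] [Algebra.FiniteType A B]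
    (K L : Type u) [Field K] [Field L] [Algebra A K] [IsFractionRing A K] [Algebra B L]
    [IsFractionRing B L]
    (hinj : Function.Injective (algebraMap A B))
    (𝔮' : Ideal B) [h𝔮' : 𝔮'.IsPrime] (hne : 𝔮'.comap (algebraMap A B) ≠ ⊥)
    (halg : ∀ b : B, ∃ p : Polynomial A, (∃ i, p.coeff i ∉ 𝔮'.comap (algebraMap A B)) ∧
      Polynomial.aeval b p ∈ 𝔮')
    (g : B) (hg : g ≠ 0) :
    ∃ 𝔮₁ : Ideal B, 𝔮₁.IsPrime ∧ 𝔮₁ ≤ 𝔮' ∧ 𝔮₁.comap (algebraMap A B) = ⊥ ∧ g ∉ 𝔮₁ ∧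
      ∀ b : B, ∃ p : Polynomial A, p ≠ 0 ∧ Polynomial.aeval b p ∈ 𝔮₁ := by
  classical
  have hiA : Function.Injective (algebraMap A K) := IsFractionRing.injective A K
  have hiB : Function.Injective (algebraMap B L) := IsFractionRing.injective B L
  let φ : K →+* L := IsFractionRing.lift (g := (algebraMap B L).comp (algebraMap A B))
    (hiB.comp hinj)
  have hφ : ∀ a, φ (algebraMap A K a) = algebraMap B L (algebraMap A B a) :=
    fun a => IsFractionRing.lift_algebraMap _ a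
  have hφinj : Function.Injective φ := φ.injective
  -- the local ring at `𝔮'` maps to `L`
  let f₀ : Localization.AtPrime 𝔮' →+* L := IsLocalization.lift (M := 𝔮'.primeCompl)
    (g := algebraMap B L) (fun y => by
      have : (y : B) ≠ 0 := fun h0 => y.2 (by rw [h0]; exact 𝔮'.zero_mem)
      exact ((map_ne_zero_iff _ hiB).mpr this).isUnit)
  have hf₀ : ∀ b, f₀ (algebraMap B (Localization.AtPrime 𝔮') b) = algebraMap B L b :=
    fun b => IsLocalization.lift_eq _ b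
  obtain ⟨W, hW, hloc⟩ := IsLocalRing.exists_factor_valuationRing f₀
  have W1 : ∀ b : B, algebraMap B L b ∈ W := fun b => by rw [← hf₀]; exact hW _
  have W2 : ∀ b : B, algebraMap B L b ∈ W.nonunits ↔ b ∈ 𝔮' := by
    intro b
    rw [mem_nonunits_iff_inv]
    constructor
    · intro h
      by_contra hb
      have hu : IsUnit (algebraMap B (Localization.AtPrime 𝔮') b) :=
        (IsLocalization.AtPrime.isUnit_to_map_iff _ 𝔮' b).mpr hb
      obtain ⟨u, hu⟩ := hu.exists_right_inv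
      have h1 : algebraMap B L b * f₀ u = 1 := by rw [← hf₀, ← map_mul, hu, map_one]
      have h2 : (algebraMap B L b)⁻¹ = f₀ u := (eq_inv_of_mul_eq_one_right h1).symm
      rcases h with h | h
      · rw [h, zero_mul] at h1; exact zero_ne_one h1
      · exact h (h2 ▸ hW u)
    · intro hb
      by_contra hcon
      push Not at hcon
      obtain ⟨h0, hinv⟩ := hcon
      have hu : IsUnit ((f₀.codRestrict W.toSubring hW)
          (algebraMap B (Localization.AtPrime 𝔮') b)) := by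
        refine IsUnit.of_mul_eq_one (⟨(algebraMap B L b)⁻¹, hinv⟩ : W.toSubring) ?_
        apply Subtype.ext
        show f₀ (algebraMap B (Localization.AtPrime 𝔮') b) * (algebraMap B L b)⁻¹ = 1
        rw [hf₀, mul_inv_cancel₀ h0]
      have := hloc.map_nonunit _ hu
      exact ((IsLocalization.AtPrime.isUnit_to_map_iff _ 𝔮' b).mp this) hb
  -- the valuation ring `V` of `K`
  let V : ValuationSubring K := W.comap φ
  have V1 : ∀ k : K, k ∈ V ↔ φ k ∈ W := fun k => ValuationSubring.mem_comap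
  have V2 : ∀ k : K, k ∈ V.nonunits ↔ φ k ∈ W.nonunits := fun k => nonunits_comap φ W k
  have hAV : ∀ a : A, algebraMap A K a ∈ V := fun a => by rw [V1, hφ]; exact W1 _
  let jA : A →+* V := (algebraMap A K).codRestrict V hAV
  have hjA : ∀ a, ((jA a : V) : K) = algebraMap A K a := fun a => rfl
  have hjA_mem : ∀ a : A, jA a ∈ maximalIdeal V ↔ a ∈ 𝔮'.comap (algebraMap A B) := by
    intro a
    rw [← ValuationSubring.coe_mem_nonunits_iff, hjA, V2, hφ, W2, Ideal.mem_comap]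
  letI algVL : Algebra V L := (φ.comp V.subtype).toAlgebra
  have halgVL : ∀ v : V, algebraMap V L v = φ (v : K) := fun v => rfl
  obtain ⟨t, ht⟩ := (Algebra.FiniteType.out : (⊤ : Subalgebra A B).FG)
  let D : Subalgebra V L := Algebra.adjoin V (↑(t.image (algebraMap B L)) : Set L)
  haveI : Algebra.FiniteType V D :=
    (Subalgebra.fg_iff_finiteType D).mp (Subalgebra.fg_adjoin_finset _)
  have D1 : ∀ b : B, algebraMap B L b ∈ D := by
    intro b
    have hb : b ∈ Algebra.adjoin A (t : Set B) := by rw [ht]; trivial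
    induction hb using Algebra.adjoin_induction with
    | mem x hx =>
      apply Algebra.subset_adjoin
      rw [Finset.coe_image]
      exact ⟨x, hx, rfl⟩
    | algebraMap a =>
      have : algebraMap B L (algebraMap A B a) = algebraMap V L (jA a) := by
        rw [halgVL, hjA, hφ]
      rw [this]
      exact Subalgebra.algebraMap_mem D _
    | add x y _ _ hx hy => rw [map_add]; exact D.add_mem hx hy
    | mul x y _ _ hx hy => rw [map_mul]; exact D.mul_mem hx hy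
  have D2 : ∀ d ∈ D, d ∈ W := by
    intro d hd
    induction hd using Algebra.adjoin_induction with
    | mem x hx =>
      rw [Finset.coe_image] at hx
      obtain ⟨b, -, rfl⟩ := hx
      exact W1 b
    | algebraMap v => rw [halgVL]; exact (V1 _).mp v.2
    | add x y _ _ hx hy => exact W.add_mem _ _ hx hy
    | mul x y _ _ hx hy => exact W.mul_mem _ _ hx hy
  let ρ : B →+* D := (algebraMap B L).codRestrict D D1
  have hρ : ∀ b, ((ρ b : D) : L) = algebraMap B L b := fun b => rfl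
  let ιW : D →+* W := (D.val.toRingHom).codRestrict W (fun d => D2 d.1 d.2)
  have hιW : ∀ d : D, ((ιW d : W) : L) = (d : L) := fun d => rfl
  let 𝔮D : Ideal D := (maximalIdeal W).comap ιW
  haveI h𝔮D : 𝔮D.IsPrime := Ideal.comap_isPrime _ _
  have Q1 : ∀ d : D, d ∈ 𝔮D ↔ (d : L) ∈ W.nonunits := by
    intro d
    rw [Ideal.mem_comap, ← ValuationSubring.coe_mem_nonunits_iff, hιW]
  have hVD : ∀ v : V, ((algebraMap V D v : D) : L) = φ (v : K) := fun v => rfl
  have hinjVD : Function.Injective (algebraMap V D) := by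
    intro v v' h
    have := congrArg (fun d : D => (d : L)) h
    simp only [hVD] at this
    exact Subtype.ext (hφinj this)
  have h𝔪 : (maximalIdeal V).map (algebraMap V D) ≤ 𝔮D := by
    rw [Ideal.map_le_iff_le_comap]
    intro v hv
    rw [Ideal.mem_comap, Q1, hVD, ← V2]
    exact ValuationSubring.coe_mem_nonunits_iff.mpr hv
  have hne𝔪 : maximalIdeal V ≠ ⊥ := by
    obtain ⟨a, ha, ha0⟩ := Submodule.exists_mem_ne_zero_of_ne_bot hne
    intro hbot
    have h1 : jA a ∈ maximalIdeal V := (hjA_mem a).mpr ha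
    rw [hbot, Ideal.mem_bot] at h1
    have h2 : algebraMap A K a = 0 := by rw [← hjA, h1]; rfl
    exact ha0 (hiA (by rw [h2, map_zero]))
  have hcomp : (algebraMap V D).comp jA = ρ.comp (algebraMap A B) := by
    ext a
    show ((algebraMap V D (jA a) : D) : L) = ((ρ (algebraMap A B a) : D) : L)
    rw [hVD, hjA, hρ, hφ]
  have hρmem : ∀ b : B, ρ b ∈ 𝔮D ↔ b ∈ 𝔮' := fun b => by rw [Q1, hρ, W2]
  have hρinj : Function.Injective ρ := by
    intro b b' h
    have := congrArg (fun d : D => (d : L)) h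
    simp only [hρ] at this
    exact hiB this
  have hBalg : ∀ b : B, ∃ p : Polynomial V, (∃ i, p.coeff i ∉ maximalIdeal V) ∧
      Polynomial.aeval (ρ b) p ∈ 𝔮D := by
    intro b
    obtain ⟨p, ⟨i, hi⟩, hp⟩ := halg b
    refine ⟨p.map jA, ⟨i, ?_⟩, ?_⟩
    · rw [Polynomial.coeff_map, hjA_mem]; exact hi
    · have : Polynomial.aeval (ρ b) (p.map jA) = ρ (Polynomial.aeval b p) := by
        rw [Polynomial.aeval_def, Polynomial.eval₂_map, hcomp, Polynomial.aeval_def,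
          Polynomial.hom_eval₂]
      rw [this, hρmem]
      exact hp
  have halgD : ∀ d : D, ∃ p : Polynomial V, (∃ i, p.coeff i ∉ maximalIdeal V) ∧
      Polynomial.aeval d p ∈ 𝔮D := by
    have hs : Algebra.adjoin V (((↑) : D → L) ⁻¹' (↑(t.image (algebraMap B L)) : Set L)) = ⊤ :=
      Algebra.adjoin_adjoin_coe_preimage
    refine halg_of_gens 𝔮D h𝔪 _ hs ?_
    intro d hd
    rw [Set.mem_preimage, Finset.coe_image] at hd
    obtain ⟨b, -, hb⟩ := hd
    have : d = ρ b := Subtype.ext hb.symm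
    rw [this]
    exact hBalg b
  have hρg : ρ g ≠ 0 := fun h => hg (hρinj (by rw [h, map_zero]))
  obtain ⟨𝔮₁D, h𝔮₁D, hle₁, hbot₁, hg₁, halg₁⟩ := core_val hinjVD 𝔮D h𝔪 hne𝔪 halgD (ρ g) hρg
  refine ⟨𝔮₁D.comap ρ, Ideal.comap_isPrime _ _, ?_, ?_, hg₁, ?_⟩
  · intro b hb
    exact (hρmem b).mp (hle₁ hb)
  · rw [eq_bot_iff]
    intro a ha
    rw [Ideal.mem_comap, Ideal.mem_comap] at ha
    have h1 : ρ (algebraMap A B a) = algebraMap V D (jA a) := (congrArg (fun k => k a) hcomp).symm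
    rw [h1] at ha
    have h2 : jA a ∈ 𝔮₁D.comap (algebraMap V D) := ha
    rw [hbot₁, Ideal.mem_bot] at h2
    have h3 : algebraMap A K a = 0 := by rw [← hjA, h2]; rfl
    rw [Ideal.mem_bot]
    exact hiA (by rw [h3, map_zero])
  · intro b
    obtain ⟨p, hp0, hp⟩ := halg₁ (ρ b)
    have hsub : Function.Injective V.subtype := Subtype.val_injective
    have hpK : p.map V.subtype ≠ 0 := (Polynomial.map_ne_zero_iff hsub).mpr hp0
    obtain ⟨s, -, hs⟩ := IsLocalization.integerNormalization_spec (nonZeroDivisors A)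
      (p.map V.subtype)
    refine ⟨IsLocalization.integerNormalization (nonZeroDivisors A) (p.map V.subtype),
      fun h0 => hpK (IsFractionRing.integerNormalization_eq_zero_iff.mp h0), ?_⟩
    rw [Ideal.mem_comap]
    have key : ρ (Polynomial.aeval b
        (IsLocalization.integerNormalization (nonZeroDivisors A) (p.map V.subtype))) =
        algebraMap V D (jA s) * Polynomial.aeval (ρ b) p := by
      apply Subtype.ext
      rw [hρ, Polynomial.aeval_def, Polynomial.hom_eval₂]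
      have e1 : (algebraMap B L).comp (algebraMap A B) = φ.comp (algebraMap A K) := by
        ext a; exact (hφ a).symm
      rw [e1, ← Polynomial.eval₂_map, hs]
      rw [Algebra.smul_def, Polynomial.eval₂_mul, Polynomial.algebraMap_apply,
        Polynomial.eval₂_C, Polynomial.eval₂_map]
      show _ = ((algebraMap V D (jA s) : D) : L) * ((Polynomial.aeval (ρ b) p : D) : L)
      rw [hVD, hjA]
      congr 1
      have e2 : ((Polynomial.aeval (ρ b) p : D) : L) = Polynomial.aeval ((ρ b : D) : L) p :=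
        (Polynomial.aeval_algHom_apply D.val (ρ b) p).symm
      rw [e2, hρ, Polynomial.aeval_def]
      rfl
    rw [key]
    exact Ideal.mul_mem_left _ _ hp

/-- The domain case: a point of a special fibre, closed in its fibre, of a dominant finite type
morphism of integral affine schemes is a specialization of closed points of the generic fibre. -/
theorem core_dom {A B : Type u} [CommRing A] [IsDomain A] [CommRing B] [IsDomain B]
    [Algebra A B] [Algebra.FiniteType A B]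
    (hinj : Function.Injective (algebraMap A B))
    (𝔮' : Ideal B) [h𝔮' : 𝔮'.IsPrime] (hne : 𝔮'.comap (algebraMap A B) ≠ ⊥)
    (halg : ∀ b : B, ∃ p : Polynomial A, (∃ i, p.coeff i ∉ 𝔮'.comap (algebraMap A B)) ∧
      Polynomial.aeval b p ∈ 𝔮')
    (g : B) (hg : g ≠ 0) :
    ∃ 𝔮₁ : Ideal B, 𝔮₁.IsPrime ∧ 𝔮₁ ≤ 𝔮' ∧ 𝔮₁.comap (algebraMap A B) = ⊥ ∧ g ∉ 𝔮₁ ∧
      ∀ b : B, ∃ p : Polynomial A, p ≠ 0 ∧ Polynomial.aeval b p ∈ 𝔮₁ :=
  core_dom_aux (FractionRing A) (FractionRing B) hinj 𝔮' hne halg g hg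

/-- The general affine case. -/
theorem core_ring {R₀ R : Type u} [CommRing R₀] [CommRing R] [Algebra R₀ R]
    [Algebra.FiniteType R₀ R]
    (𝔮 𝔮' : Ideal R) [h𝔮 : 𝔮.IsPrime] [h𝔮' : 𝔮'.IsPrime] (hle : 𝔮 ≤ 𝔮')
    (hne : 𝔮.comap (algebraMap R₀ R) ≠ 𝔮'.comap (algebraMap R₀ R))
    (halg : ∀ b : R, ∃ p : Polynomial R₀, (∃ i, p.coeff i ∉ 𝔮'.comap (algebraMap R₀ R)) ∧
      Polynomial.aeval b p ∈ 𝔮')
    (g : R) (hg : g ∉ 𝔮) :
    ∃ 𝔮₁ : Ideal R, 𝔮₁.IsPrime ∧ 𝔮 ≤ 𝔮₁ ∧ 𝔮₁ ≤ 𝔮' ∧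
      𝔮₁.comap (algebraMap R₀ R) = 𝔮.comap (algebraMap R₀ R) ∧ g ∉ 𝔮₁ ∧
      ∀ b : R, ∃ p : Polynomial R₀, (∃ i, p.coeff i ∉ 𝔮.comap (algebraMap R₀ R)) ∧
        Polynomial.aeval b p ∈ 𝔮₁ := by
  classical
  haveI : IsDomain (R ⧸ 𝔮) := Ideal.Quotient.isDomain 𝔮
  haveI : (𝔮.comap (algebraMap R₀ R)).IsPrime := Ideal.comap_isPrime _ _
  haveI : IsDomain (R₀ ⧸ 𝔮.comap (algebraMap R₀ R)) := Ideal.Quotient.isDomain _
  haveI : IsScalarTower R₀ (R₀ ⧸ 𝔮.comap (algebraMap R₀ R)) (R ⧸ 𝔮) :=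
    IsScalarTower.of_algebraMap_eq (fun r => rfl)
  haveI : Algebra.FiniteType R₀ (R ⧸ 𝔮) :=
    Algebra.FiniteType.of_surjective (Ideal.Quotient.mkₐ R₀ 𝔮) (Ideal.Quotient.mkₐ_surjective R₀ 𝔮)
  haveI : Algebra.FiniteType (R₀ ⧸ 𝔮.comap (algebraMap R₀ R)) (R ⧸ 𝔮) :=
    Algebra.FiniteType.of_restrictScalars_finiteType R₀ _ _
  have hinj : Function.Injective (algebraMap (R₀ ⧸ 𝔮.comap (algebraMap R₀ R)) (R ⧸ 𝔮)) :=
    Ideal.algebraMap_quotient_injective
  have hmk : ∀ r : R₀, algebraMap (R₀ ⧸ 𝔮.comap (algebraMap R₀ R)) (R ⧸ 𝔮)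
      (Ideal.Quotient.mk _ r) = Ideal.Quotient.mk 𝔮 (algebraMap R₀ R r) := fun r => rfl
  haveI hQ' : (𝔮'.map (Ideal.Quotient.mk 𝔮)).IsPrime :=
    Ideal.map_isPrime_of_surjective Ideal.Quotient.mk_surjective (by rwa [Ideal.mk_ker])
  have hmem' : ∀ x : R, Ideal.Quotient.mk 𝔮 x ∈ 𝔮'.map (Ideal.Quotient.mk 𝔮) ↔ x ∈ 𝔮' :=
    fun x => Ideal.mem_quotient_iff_mem hle
  have hcomp : (algebraMap (R₀ ⧸ 𝔮.comap (algebraMap R₀ R)) (R ⧸ 𝔮)).comp
      (Ideal.Quotient.mk (𝔮.comap (algebraMap R₀ R))) =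
      (Ideal.Quotient.mk 𝔮).comp (algebraMap R₀ R) := by
    ext r; rfl
  have haeval : ∀ (b : R) (p : Polynomial R₀),
      Polynomial.aeval (Ideal.Quotient.mk 𝔮 b)
        (p.map (Ideal.Quotient.mk (𝔮.comap (algebraMap R₀ R)))) =
      Ideal.Quotient.mk 𝔮 (Polynomial.aeval b p) := by
    intro b p
    rw [Polynomial.aeval_def, Polynomial.eval₂_map, hcomp, Polynomial.aeval_def,
      Polynomial.hom_eval₂]
  have hne' : (𝔮'.map (Ideal.Quotient.mk 𝔮)).comap
      (algebraMap (R₀ ⧸ 𝔮.comap (algebraMap R₀ R)) (R ⧸ 𝔮)) ≠ ⊥ := by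
    have hlt : 𝔮.comap (algebraMap R₀ R) < 𝔮'.comap (algebraMap R₀ R) :=
      lt_of_le_of_ne (Ideal.comap_mono hle) hne
    obtain ⟨a, ha', ha⟩ := SetLike.exists_of_lt hlt
    intro hbot
    have h1 : Ideal.Quotient.mk (𝔮.comap (algebraMap R₀ R)) a ∈
        (𝔮'.map (Ideal.Quotient.mk 𝔮)).comap
          (algebraMap (R₀ ⧸ 𝔮.comap (algebraMap R₀ R)) (R ⧸ 𝔮)) := by
      rw [Ideal.mem_comap, hmk, hmem']
      exact ha'
    rw [hbot, Ideal.mem_bot, Ideal.Quotient.eq_zero_iff_mem] at h1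
    exact ha h1
  have halg' : ∀ b : R ⧸ 𝔮, ∃ p : Polynomial (R₀ ⧸ 𝔮.comap (algebraMap R₀ R)),
      (∃ i, p.coeff i ∉ (𝔮'.map (Ideal.Quotient.mk 𝔮)).comap
        (algebraMap (R₀ ⧸ 𝔮.comap (algebraMap R₀ R)) (R ⧸ 𝔮))) ∧
      Polynomial.aeval b p ∈ 𝔮'.map (Ideal.Quotient.mk 𝔮) := by
    intro b
    obtain ⟨b, rfl⟩ := Ideal.Quotient.mk_surjective b
    obtain ⟨p, ⟨i, hi⟩, hp⟩ := halg b
    refine ⟨p.map (Ideal.Quotient.mk _), ⟨i, ?_⟩, ?_⟩
    · rw [Polynomial.coeff_map, Ideal.mem_comap, hmk, hmem']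
      exact hi
    · rw [haeval, hmem']
      exact hp
  have hg' : Ideal.Quotient.mk 𝔮 g ≠ 0 := fun h => hg (Ideal.Quotient.eq_zero_iff_mem.mp h)
  obtain ⟨𝔮₁, h𝔮₁, hle₁, hbot₁, hg₁, halg₁⟩ :=
    core_dom hinj (𝔮'.map (Ideal.Quotient.mk 𝔮)) hne' halg' (Ideal.Quotient.mk 𝔮 g) hg'
  refine ⟨𝔮₁.comap (Ideal.Quotient.mk 𝔮), Ideal.comap_isPrime _ _, ?_, ?_, ?_, hg₁, ?_⟩
  · intro x hx
    rw [Ideal.mem_comap, Ideal.Quotient.eq_zero_iff_mem.mpr hx]
    exact 𝔮₁.zero_mem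
  · intro x hx
    exact (hmem' x).mp (hle₁ hx)
  · ext r
    rw [Ideal.mem_comap, Ideal.mem_comap, ← hmk]
    have : algebraMap (R₀ ⧸ 𝔮.comap (algebraMap R₀ R)) (R ⧸ 𝔮) (Ideal.Quotient.mk _ r) ∈ 𝔮₁ ↔
        Ideal.Quotient.mk (𝔮.comap (algebraMap R₀ R)) r ∈
          𝔮₁.comap (algebraMap (R₀ ⧸ 𝔮.comap (algebraMap R₀ R)) (R ⧸ 𝔮)) := Iff.rfl
    rw [this, hbot₁, Ideal.mem_bot, Ideal.Quotient.eq_zero_iff_mem, Ideal.mem_comap]
  · intro b
    obtain ⟨q, hq0, hq⟩ := halg₁ (Ideal.Quotient.mk 𝔮 b)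
    obtain ⟨p, rfl⟩ := Polynomial.map_surjective
      (Ideal.Quotient.mk (𝔮.comap (algebraMap R₀ R))) Ideal.Quotient.mk_surjective q
    have hi : ∃ i, (p.map (Ideal.Quotient.mk (𝔮.comap (algebraMap R₀ R)))).coeff i ≠ 0 := by
      by_contra hcon
      push Not at hcon
      exact hq0 (Polynomial.ext (fun i => by rw [hcon i, Polynomial.coeff_zero]))
    obtain ⟨i, hi⟩ := hi
    refine ⟨p, ⟨i, fun hmem => hi ?_⟩, ?_⟩
    · rw [Polynomial.coeff_map]
      exact Ideal.Quotient.eq_zero_iff_mem.mpr hmem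
    · rw [Ideal.mem_comap, ← haeval]
      exact hq

end Groth.Agent.Lib.Helper80.SpecFib
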