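import Mathlib
import Groth.Agent.Lib.Helper80.SpecFib.PartC
import Groth.Agent.Lib.Helper73.DimFormula.GenericFibre
import Groth.Agent.Lib.Helper73.DimFormula.Chart

/-!
# Specializations in fibres, part E (helper80)

Translation between points closed in their fibre and algebraicity of residue domains in charts.
-/

set_option autoImplicit false
set_option linter.style.haveILetI false
universe u

open AlgebraicGeometry CategoryTheory Topology
open Groth.Agent.Lib.Helper73

namespace Groth.Agent.Lib.Helper80.SpecFib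

/-- Algebraicity of a residue domain extension, elementwise. -/
theorem isAlgebraic_quotient_iff {A B : Type u} [CommRing A] [CommRing B] [Algebra A B]
    (q : Ideal B) (p : Ideal A) [q.LiesOver p] :
    Algebra.IsAlgebraic (A ⧸ p) (B ⧸ q) ↔ ∀ b : B, ∃ P : Polynomial A,
      (∃ i, P.coeff i ∉ p) ∧ Polynomial.aeval b P ∈ q := by
  have haeval : ∀ (b : B) (P : Polynomial A),
      Polynomial.aeval (Ideal.Quotient.mk q b) (P.map (Ideal.Quotient.mk p)) =
      Ideal.Quotient.mk q (Polynomial.aeval b P) := by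
    intro b P
    have h1 : Polynomial.aeval (Ideal.Quotient.mk q b) (P.map (algebraMap A (A ⧸ p))) =
        Polynomial.aeval (Ideal.Quotient.mk q b) P := Polynomial.aeval_map_algebraMap _ _ _
    have h2 : Polynomial.aeval (Ideal.Quotient.mk q b) P =
        Ideal.Quotient.mk q (Polynomial.aeval b P) :=
      Polynomial.aeval_algHom_apply (Ideal.Quotient.mkₐ A q) b P
    exact h1.trans h2
  constructor
  · intro h b
    obtain ⟨Q, hQ0, hQ⟩ := h.isAlgebraic (Ideal.Quotient.mk q b)
    obtain ⟨P, rfl⟩ := Polynomial.map_surjective (Ideal.Quotient.mk p)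
      Ideal.Quotient.mk_surjective Q
    have hi : ∃ i, (P.map (Ideal.Quotient.mk p)).coeff i ≠ 0 := by
      by_contra hcon
      push Not at hcon
      exact hQ0 (Polynomial.ext (fun i => by rw [hcon i, Polynomial.coeff_zero]))
    obtain ⟨i, hi⟩ := hi
    refine ⟨P, ⟨i, fun hmem => hi ?_⟩, ?_⟩
    · rw [Polynomial.coeff_map]
      exact Ideal.Quotient.eq_zero_iff_mem.mpr hmem
    · rw [haeval] at hQ
      exact Ideal.Quotient.eq_zero_iff_mem.mp hQ
  · intro h
    constructor
    intro b
    obtain ⟨b, rfl⟩ := Ideal.Quotient.mk_surjective b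
    obtain ⟨P, ⟨i, hi⟩, hP⟩ := h b
    refine ⟨P.map (Ideal.Quotient.mk p), ?_, ?_⟩
    · intro h0
      have : (P.map (Ideal.Quotient.mk p)).coeff i = 0 := by rw [h0, Polynomial.coeff_zero]
      rw [Polynomial.coeff_map] at this
      exact hi (Ideal.Quotient.eq_zero_iff_mem.mp this)
    · rw [haeval]
      exact Ideal.Quotient.eq_zero_iff_mem.mpr hP

/-- A point closed in its (set-theoretic) fibre has algebraic residue field extension. -/
theorem resTrdegNat_eq_zero_of_isClosed_fibre' {X S : Scheme.{u}} (f : X ⟶ S)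
    [LocallyOfFiniteType f] (x : X)
    (hcl : IsClosed (Subtype.val ⁻¹' {x} : Set ↑(f ⁻¹' {f x}))) : resTrdegNat f x = 0 := by
  unfold resTrdegNat
  rw [resTrdeg_eq_natCast f x, Cardinal.toNat_natCast]
  apply trdegNat_eq_zero_of_isClosed
  have : ({f.asFiber x} : Set (f.fiber (f x))) =
      (f.fiberHomeo (f x)) ⁻¹' (Subtype.val ⁻¹' {x}) := by
    ext z
    simp only [Set.mem_singleton_iff, Set.mem_preimage]
    rw [Scheme.Hom.fiberHomeo_apply]
    constructor
    · rintro rfl
      exact f.fiberι_asFiber x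
    · intro hz
      apply (f.fiberι (f x)).isEmbedding.injective
      rw [f.fiberι_asFiber x, hz]
  rw [this]
  exact hcl.preimage (f.fiberHomeo (f x)).continuous

/-- A point with algebraic residue field extension is closed in its fibre. -/
theorem isClosed_fibre_of_resTrdegNat_eq_zero {X S : Scheme.{u}} (f : X ⟶ S)
    [LocallyOfFiniteType f] (x : X) (s : S) (hs : f x = s) (h0 : resTrdegNat f x = 0) :
    IsClosed (Subtype.val ⁻¹' {x} : Set ↑(f ⁻¹' {s})) := by
  subst hs
  have hδ := isDimFun_trdegNat (k := S.residueField (f x)) (f.fiberToSpecResidueField (f x))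
  have hδ0 : trdegNat (k := S.residueField (f x)) (f.fiberToSpecResidueField (f x))
      (f.asFiber x) = 0 := by
    rw [trdegNat_fiber_eq_resTrdegNat, f.fiberι_asFiber x]
    exact h0
  have hcl : IsClosed ({f.asFiber x} : Set (f.fiber (f x))) := by
    apply isClosed_of_closure_subset
    intro y hy
    have hsp : f.asFiber x ⤳ y := specializes_iff_mem_closure.mpr hy
    by_contra hne
    have := hδ.lt_of_specializes hsp (fun h => hne h.symm)
    omega
  have : (Subtype.val ⁻¹' {x} : Set ↑(f ⁻¹' {f x})) =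
      (f.fiberHomeo (f x)).symm ⁻¹' {f.asFiber x} := by
    ext z
    simp only [Set.mem_singleton_iff, Set.mem_preimage]
    constructor
    · intro hz
      apply (f.fiberι (f x)).isEmbedding.injective
      rw [f.fiberι_asFiber x, Scheme.Hom.fiberι_fiberHomeo_symm, hz]
    · intro hz
      have := congrArg (f.fiberι (f x)) hz
      rw [f.fiberι_asFiber x, Scheme.Hom.fiberι_fiberHomeo_symm] at this
      exact this
  rw [this]
  exact hcl.preimage (f.fiberHomeo (f x)).symm.continuous

/-- In affine charts, `resTrdegNat f x = 0` means that the residue domain extension is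
algebraic. -/
theorem resTrdegNat_eq_zero_iff_chart {X S : Scheme.{u}} (f : X ⟶ S) [LocallyOfFiniteType f]
    {U : X.Opens} (hU : IsAffineOpen U) {V : S.Opens} (hV : IsAffineOpen V) (e : U ≤ f ⁻¹ᵁ V)
    [Algebra Γ(S, V) Γ(X, U)] (halg : algebraMap Γ(S, V) Γ(X, U) = (f.appLE V U e).hom)
    (x : X) (hx : x ∈ U) :
    resTrdegNat f x = 0 ↔ ∀ b : Γ(X, U), ∃ P : Polynomial Γ(S, V),
      (∃ i, P.coeff i ∉ (hU.primeIdealOf ⟨x, hx⟩).asIdeal.comap (algebraMap Γ(S, V) Γ(X, U))) ∧
      Polynomial.aeval b P ∈ (hU.primeIdealOf ⟨x, hx⟩).asIdeal := by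
  have hp : (hU.primeIdealOf ⟨x, hx⟩).asIdeal.under Γ(S, V) =
      (hV.primeIdealOf ⟨f x, e hx⟩).asIdeal := by
    have := IsAffineOpen.comap_primeIdealOf_appLE (f := f) V hV U hU e hx
    rw [← this, Ideal.under_def, halg]
    rfl
  have h1 := trdeg_residueFieldMap_eq_chart f hU hV e x hx (e hx) halg
    ((hU.primeIdealOf ⟨x, hx⟩).asIdeal.under Γ(S, V)) (hU.primeIdealOf ⟨x, hx⟩).asIdeal hp rfl
  have h2 : resTrdeg f x = Algebra.trdeg
      (Γ(S, V) ⧸ (hU.primeIdealOf ⟨x, hx⟩).asIdeal.under Γ(S, V))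
      (Γ(X, U) ⧸ (hU.primeIdealOf ⟨x, hx⟩).asIdeal) := h1
  rw [← isAlgebraic_quotient_iff (hU.primeIdealOf ⟨x, hx⟩).asIdeal
    ((hU.primeIdealOf ⟨x, hx⟩).asIdeal.under Γ(S, V)), ← _root_.trdeg_eq_zero_iff, ← h2,
    resTrdeg_eq_resTrdegNat]
  exact_mod_cast Iff.rfl

end Groth.Agent.Lib.Helper80.SpecFib
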